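import Cfsg.Agent.Lib.Schur.TorusForms
import Mathlib.Algebra.Polynomial.Roots
import Mathlib.Algebra.CharP.Basic
import Mathlib.Tactic.LinearCombination
import Mathlib.Tactic.NormNum.Prime
import Mathlib.Tactic.IntervalCases
import Mathlib.Tactic.ComputeDegree

/-!
# Forms for the multiplier of the small Ree groups

Biadditive maps on a field with `3^(2m+1)` elements invariant under the torus, and alternating forms
on a group of order eight invariant under an automorphism of order seven.
-/

set_option autoImplicit false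

namespace CfsgLib.SmallReeMult

universe u v

variable {K : Type v} [Field K] [CharP K 3] {A : Type u} [CommGroup A]

/-- An additive map with `f (-x) = f x` is trivial in characteristic three. -/
theorem eq_one_of_neg {f : K → A} (hadd : ∀ x y, f (x + y) = f x * f y) (hneg : ∀ x, f (-x) = f x)
    (x : K) : f x = 1 := by
  have h0 : f 0 = 1 := by
    have h := hadd 0 0
    rw [add_zero] at h
    exact mul_eq_left.1 h.symm
  have h2 : f x * f x = 1 := by
    conv_lhs => arg 2; rw [← hneg x]
    rw [← hadd, add_neg_cancel, h0]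
  have h3 : f (x + x + x) = 1 := by
    rw [show x + x + x = 0 by linear_combination x * CharP.cast_eq_zero K 3, h0]
  rwa [hadd, hadd, h2, one_mul] at h3

variable [Fintype K]

open Polynomial in
/-- A biadditive map invariant under `(l, l^n)`, `n = 3^(m+1) + 2`, is trivial. -/
theorem eq_one_of_mixed {m : ℕ} (hm : 1 ≤ m) (hK : Fintype.card K = 3 * (3 ^ m * 3 ^ m))
    {B : K → K → A}
    (hl : ∀ a a' b, B (a + a') b = B a b * B a' b) (hr : ∀ a b b', B a (b + b') = B a b * B a b')
    (hinv : ∀ k a b, k ≠ 0 → B (k * a) (k ^ (3 * 3 ^ m + 2) * b) = B a b) (a b : K) : B a b = 1 := by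
  classical
  obtain ⟨n, hn⟩ : ∃ n, n = 3 * 3 ^ m + 2 := ⟨_, rfl⟩
  simp only [← hn] at hinv
  have h3m : 3 ≤ 3 ^ m := le_trans (by norm_num) (Nat.pow_le_pow_right (n := 3) (by norm_num) hm)
  have hq : 2 * n + 3 < Fintype.card K := by
    rw [hK, hn]; nlinarith
  obtain ⟨s, hs0, hs1, hd⟩ : ∃ s : K, s ≠ 0 ∧ s + 1 ≠ 0 ∧ s ^ n - (s + 1) ^ n * (1 + s ^ n) ≠ 0 := by
    by_contra hcon
    push Not at hcon
    let p : Polynomial K := X ^ n - (X + 1) ^ n * (1 + X ^ n)
    have hn0 : n ≠ 0 := by omega
    have hdeg : p.natDegree ≤ 2 * n := by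
      simp only [p]
      compute_degree
      all_goals omega
    have hp0 : p ≠ 0 := fun h => by
      have := congrArg (eval 0) h
      simp [p, zero_pow hn0] at this
    have hsub : (Finset.univ : Finset K) \ {0, -1} ⊆ p.roots.toFinset := by
      intro s hs
      simp only [Finset.mem_sdiff, Finset.mem_univ, true_and, Finset.mem_insert,
        Finset.mem_singleton, not_or] at hs
      rw [Multiset.mem_toFinset, mem_roots hp0, IsRoot.def]
      simp [p, hcon s hs.1 (fun h => hs.2 (eq_neg_of_add_eq_zero_left h))]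
    have h1 := Finset.card_le_card hsub
    have h2 := (Multiset.toFinset_card_le p.roots).trans (card_roots' p)
    rw [Finset.card_sdiff, Finset.inter_univ, Finset.card_univ] at h1
    have h3 := Finset.card_le_two (a := (0 : K)) (b := -1)
    omega
  have hB : ∀ a b, a ≠ 0 → B a b = B 1 (b / a ^ n) := fun a b ha => by
    have := hinv a 1 (b / a ^ n) ha
    rwa [mul_one, mul_div_cancel₀ b (pow_ne_zero _ ha)] at this
  set d := ((s + 1) ^ n)⁻¹ - (s ^ n)⁻¹ - 1 with hd'
  have hd0 : d ≠ 0 := by
    intro h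
    apply hd
    have e1 : ((s + 1) ^ n)⁻¹ * (s + 1) ^ n = 1 := inv_mul_cancel₀ (pow_ne_zero _ hs1)
    have e2 : (s ^ n)⁻¹ * s ^ n = 1 := inv_mul_cancel₀ (pow_ne_zero _ hs0)
    linear_combination ((s + 1) ^ n * s ^ n) * h - s ^ n * e1 + (s + 1) ^ n * e2
  have hone : ∀ b, B 1 b = 1 := fun b => by
    have h := hl s 1 (b / d)
    rw [hB (s + 1) (b / d) hs1, hB s (b / d) hs0] at h
    have e : b + (b / d / s ^ n + b / d) = b / d / (s + 1) ^ n := by
      have : b / d * d = b := div_mul_cancel₀ b hd0
      calc b + (b / d / s ^ n + b / d) = b / d * d + (b / d / s ^ n + b / d) := by rw [this]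
        _ = _ := by rw [hd']; simp only [div_eq_mul_inv]; ring
    rw [← e, hr, hr] at h
    exact mul_eq_right.1 h
  rcases eq_or_ne a 0 with rfl | ha
  · have := hl 0 0 b
    rw [add_zero] at this
    exact mul_eq_left.1 this.symm
  · rw [hB a b ha, hone]

/-- On an elementary abelian group of order eight, an alternating biadditive form invariant under an
automorphism of order seven is trivial. -/
theorem eq_one_of_seven {S : Type v} [CommGroup S] [Finite S] (h8 : Nat.card S = 8)
    (h2 : ∀ x : S, x * x = 1) (α : MulAut S) (hα7 : α ^ 7 = 1) (hα : α ≠ 1) (B : S → S → A)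
    (hl : ∀ x y z, B (x * y) z = B x z * B y z) (hr : ∀ x y z, B z (x * y) = B z x * B z y)
    (halt : ∀ x, B x x = 1) (hinv : ∀ x y, B (α x) (α y) = B x y) (x y : S) : B x y = 1 := by
  classical
  have hz : ∀ y, B 1 y = 1 := fun y => by
    have := hl 1 1 y
    rw [one_mul] at this
    exact mul_eq_left.1 this.symm
  have hzr : ∀ x, B x 1 = 1 := fun x => by
    have := hr 1 1 x
    rw [one_mul] at this
    exact mul_eq_left.1 this.symm
  have hsq : ∀ x y, B x y * B x y = 1 := fun x y => by rw [← hl, h2, hz]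
  have hsymm : ∀ x y, B x y = B y x := fun x y => by
    have h := halt (x * y)
    rw [hl, hr, hr, halt, halt, one_mul, mul_one] at h
    calc B x y = B x y * (B y x * B y x) := by rw [hsq, mul_one]
      _ = B x y * B y x * B y x := (mul_assoc _ _ _).symm
      _ = B y x := by rw [h, one_mul]
  -- the action is free away from the identity
  have h7 : orderOf α = 7 := by
    rcases (Nat.dvd_prime (by norm_num : Nat.Prime 7)).1 (orderOf_dvd_of_pow_eq_one hα7) with h | h
    · exact absurd (orderOf_eq_one_iff.1 h) hα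
    · exact h
  haveI : Fintype S := Fintype.ofFinite S
  let σ : Equiv.Perm S := MulEquiv.toEquiv α
  have hσi : ∀ (i : ℕ) (x : S), (σ ^ i) x = (α ^ i) x := by
    intro i
    induction i with
    | zero => exact fun x => rfl
    | succ i ih => intro x; rw [pow_succ, pow_succ]; exact ih (α x)
  have hinv' : ∀ (i : ℕ) (x y : S), B ((α ^ i) x) ((α ^ i) y) = B x y := by
    intro i
    induction i with
    | zero => exact fun x y => rfl
    | succ i ih =>
      intro x y
      rw [pow_succ]
      exact (ih (α x) (α y)).trans (hinv x y)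
  -- a point moved by `α` has seven distinct images
  obtain ⟨x₀, hx₀⟩ : ∃ x₀, α x₀ ≠ x₀ := by
    by_contra h
    push Not at h
    exact hα (MulEquiv.ext h)
  have hfree : ∀ i : ℕ, ¬ 7 ∣ i → (α ^ i) x₀ ≠ x₀ := by
    intro i hi h
    apply hx₀
    obtain ⟨j, -, hj⟩ := Nat.exists_mul_mod_eq_one_of_coprime
      ((Nat.Prime.coprime_iff_not_dvd (by norm_num : Nat.Prime 7)).2 hi).symm (by norm_num)
    have hfix : ∀ j : ℕ, ((α ^ i) ^ j) x₀ = x₀ := by
      intro j
      induction j with
      | zero => rfl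
      | succ j ih => rw [pow_succ, MulAut.mul_apply, h, ih]
    have h1 : (α ^ i) ^ j = α := by
      rw [← pow_mul, ← pow_mod_orderOf, h7, hj, pow_one]
    rw [← h1]
    exact hfix j
  have hne1 : ∀ i : ℕ, (α ^ i) x₀ ≠ 1 := fun i h => hx₀ (by
    have : x₀ = 1 := (α ^ i).injective (h.trans (map_one _).symm)
    rw [this, map_one])
  have hinj : ∀ i j : ℕ, i < 7 → j < 7 → (α ^ i) x₀ = (α ^ j) x₀ → i = j := by
    intro i j hi hj h
    rcases lt_trichotomy i j with hlt | heq | hlt
    · refine absurd ((α ^ i).injective ?_).symm (hfree (j - i) fun hd => by omega)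
      rw [← MulAut.mul_apply, ← pow_add, Nat.add_sub_cancel' hlt.le, h]
    · exact heq
    · refine absurd ((α ^ j).injective ?_).symm (hfree (i - j) fun hd => by omega)
      rw [← MulAut.mul_apply, ← pow_add, Nat.add_sub_cancel' hlt.le, h]
  have hall : ∀ w : S, w ≠ 1 → ∃ i < 7, (α ^ i) x₀ = w := by
    intro w hw
    have himg : (Finset.range 7).image (fun i => (α ^ i) x₀) = Finset.univ.erase 1 := by
      refine Finset.eq_of_subset_of_card_le (fun v hv => ?_) ?_
      · obtain ⟨i, -, rfl⟩ := Finset.mem_image.1 hv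
        exact Finset.mem_erase.2 ⟨hne1 i, Finset.mem_univ _⟩
      · rw [Finset.card_erase_of_mem (Finset.mem_univ _), Finset.card_univ, ← Nat.card_eq_fintype_card, h8,
          Finset.card_image_of_injOn (fun i hi j hj h => hinj i j (by simpa using hi) (by simpa using hj) h),
          Finset.card_range]
    obtain ⟨i, hi, hiw⟩ := Finset.mem_image.1 (himg.symm ▸ Finset.mem_erase.2 ⟨hw, Finset.mem_univ w⟩)
    exact ⟨i, Finset.mem_range.1 hi, hiw⟩
  let X : ℕ → S := fun i => (α ^ i) x₀
  have hX7 : ∀ i, X (i + 7) = X i := fun i => by simp only [X]; rw [pow_add, hα7, mul_one]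
  have hXs : ∀ j i, (α ^ j) (X i) = X (j + i) := fun j i => by
    simp only [X]; rw [pow_add, MulAut.mul_apply]
  let f : ℕ → A := fun i => B (X 0) (X i)
  have hf : ∀ j i, B (X j) (X (j + i)) = f i := fun j i => by
    have h := hinv' j (X 0) (X i)
    rwa [hXs, hXs, add_zero] at h
  have hfneg : ∀ i < 7, f (7 - i) = f i := fun i hi => by
    have h := hf i (7 - i)
    rw [Nat.add_sub_cancel' hi.le, show X 7 = X 0 from hX7 0] at h
    rw [← h, hsymm]
  obtain ⟨k, hk, hkX⟩ := hall (X 0 * X 1) (fun h => by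
    have h01 : X 0 = X 1 := by
      rw [← mul_one (X 0), ← h2 (X 1), ← mul_assoc, h, one_mul]
    exact absurd (hinj 0 1 (by norm_num) (by norm_num) h01) (by norm_num))
  change X k = X 0 * X 1 at hkX
  have hshift : ∀ j, X (j + k) = X j * X (j + 1) := fun j => by
    rw [← hXs, hkX, map_mul, hXs, hXs, add_zero]
  have hmul : ∀ a b : S, a * (a * b) = b := fun a b => by rw [← mul_assoc, h2, one_mul]
  have hkk : k ≠ 0 ∧ k ≠ 1 ∧ k ≠ 2 ∧ k ≠ 4 ∧ k ≠ 6 := by
    refine ⟨?_, ?_, ?_, ?_, ?_⟩ <;> rintro rfl
    · exact hne1 1 (show X 1 = 1 from mul_eq_left.1 hkX.symm)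
    · exact hne1 0 (show X 0 = 1 from mul_eq_right.1 hkX.symm)
    · have h1 := hshift 1
      rw [show X (1 + 1) = X 2 from rfl, hkX, mul_comm (X 1), mul_assoc, h2, mul_one] at h1
      exact absurd (hinj (1 + 2) 0 (by norm_num) (by norm_num) h1) (by norm_num)
    · have h1 := hshift 3
      rw [show X (3 + 4) = X 0 from hX7 0, show X (3 + 1) = X 4 from rfl, hkX] at h1
      have h3 : X 3 = X 1 := by
        calc X 3 = X 3 * (X 0 * X 1) * (X 0 * X 1) := by rw [mul_assoc, h2, mul_one]
          _ = X 0 * (X 0 * X 1) := by rw [← h1]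
          _ = X 1 := hmul _ _
      exact absurd (hinj 3 1 (by norm_num) (by norm_num) h3) (by norm_num)
    · have h1 := hshift 1
      rw [show X (1 + 6) = X 0 from hX7 0, show X (1 + 1) = X 2 from rfl] at h1
      have h3 : X 2 = X 6 := by
        rw [hkX, h1, mul_comm (X 1) (X 2), mul_assoc, h2, mul_one]
      exact absurd (hinj 2 6 (by norm_num) (by norm_num) h3) (by norm_num)
  -- line relations
  have e1 : f k = f 1 := by
    show B (X 0) (X k) = B (X 0) (X 1)
    rw [hkX, hr, halt, one_mul]
  have e2 : f (k - 1) = f 1 := by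
    rw [← hf 1 (k - 1), Nat.add_sub_cancel' (by omega : 1 ≤ k), hkX, hr, halt, mul_one]
    exact hsymm _ _
  have e3 : f (k + 1) = f 1 * f 2 := by
    show B (X 0) (X (k + 1)) = B (X 0) (X 1) * B (X 0) (X 2)
    rw [show k + 1 = 1 + k by omega, hshift, hr]
  have hc : ∀ i < 7, f i = 1 := by
    have hk' : k = 3 ∨ k = 5 := by omega
    have g4 := hfneg 3 (by norm_num)
    have g5 := hfneg 2 (by norm_num)
    have g6 := hfneg 1 (by norm_num)
    norm_num at g4 g5 g6
    have h11 : f 1 * f 1 = 1 := hsq _ _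
    obtain ⟨a2, a3, a1⟩ : f 2 = f 1 ∧ f 3 = f 1 ∧ f 1 = 1 := by
      rcases hk' with rfl | rfl
      · norm_num at e2 e3
        rw [g4, e1, e2, h11] at e3
        exact ⟨e2, e1, e3⟩
      · norm_num at e2 e3
        rw [g4] at e2
        rw [g5] at e1
        rw [g6, e1, h11] at e3
        exact ⟨e1, e2, e3⟩
    intro i hi
    interval_cases i
    · exact halt _
    · exact a1
    · exact a2.trans a1
    · exact a3.trans a1
    · exact g4.trans (a3.trans a1)
    · exact g5.trans (a2.trans a1)
    · exact g6.trans a1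
  rcases eq_or_ne x 1 with rfl | hx
  · exact hz y
  rcases eq_or_ne y 1 with rfl | hy
  · exact hzr x
  obtain ⟨i, hi, rfl⟩ := hall x hx
  obtain ⟨j, hj, rfl⟩ := hall y hy
  change B (X i) (X j) = 1
  rcases le_total i j with hij | hij
  · rw [← Nat.add_sub_cancel' hij, hf]
    exact hc _ (by omega)
  · rw [hsymm, ← Nat.add_sub_cancel' hij, hf]
    exact hc _ (by omega)

end CfsgLib.SmallReeMult
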