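import Cfsg.Agent.Lib.SmallReeMult.ThreePart
import Cfsg.Agent.S1152
import Cfsg.Agent.S1156
import Cfsg.Agent.S1157

/-!
# The Schur multiplier of the small Ree groups is trivial
-/

set_option autoImplicit false
set_option linter.style.haveILetI false

namespace CfsgLib.SmallReeMult

open Cfsg.Lie CfsgLib.Twisted CfsgLib.SmallRee

universe u

variable {K : Type u} [Field K] [Fintype K] {m : ℕ}

set_option quotPrecheck false
local notation "𝔾" => ↥(twistedG2 K (3 ^ m))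

theorem noMultiplierAt_two (hm : 1 ≤ m) (hK : Fintype.card K = 3 ^ (2 * m + 1)) :
    CfsgLib.Schur.NoMultiplierAt 2 ↥(twistedG2 K (3 ^ m)) := by
  classical
  obtain ⟨_, hn⟩ := CfsgLib.Twisted.setupG2 K hK
  set a : 𝔾 := ⟨invol K m, (Subgroup.mem_inf.1 (invol_mem_H1 hn)).2⟩
  have ha1 : a ≠ 1 := fun e => invol_ne_one (congrArg Subtype.val e)
  have ha2 : a * a = 1 := Subtype.ext invol_mul_self
  have haH : (a : GL chevG2.Idx K) ∈ chevG2.diagonalSubgroup K :=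
    (Subgroup.mem_inf.1 (invol_mem_H1 hn)).1
  haveI : Fact (Nat.Prime 2) := ⟨Nat.prime_two⟩
  obtain ⟨S⟩ : Nonempty (Sylow 2 𝔾) := inferInstance
  obtain ⟨h8, hsq⟩ := (Cfsg.Agent.S1152.result hK a haH ha1 ha2).2 S
  obtain ⟨hcS, h168⟩ := Cfsg.Agent.S1157.result hm hK S
  have hab : IsMulCommutative (S : Subgroup 𝔾) := ⟨⟨fun x y => Subtype.ext (by
    have hy : (y : 𝔾) ∈ Subgroup.centralizer ((S : Subgroup 𝔾) : Set 𝔾) := by rw [hcS]; exact y.2
    exact Subgroup.mem_centralizer_iff.1 hy x x.2)⟩⟩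
  haveI : Fact (Nat.Prime 7) := ⟨by norm_num⟩
  obtain ⟨⟨n, hnN⟩, hn7⟩ := exists_prime_orderOf_dvd_card' (G := ↥(Subgroup.normalizer
    ((S : Subgroup 𝔾) : Set 𝔾))) 7 (by rw [h168]; norm_num)
  rw [← Subgroup.orderOf_coe] at hn7
  change orderOf n = 7 at hn7
  refine CfsgLib.Schur.noMultiplierAt_of_forms S hab {n} ?_ ?_
  · rintro _ rfl s hs
    exact (Subgroup.mem_normalizer_iff.1 hnN s).1 hs
  intro M _ B hbil halt hinv x hx y hy
  letI : CommGroup ↥(S : Subgroup 𝔾) :=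
    { (inferInstance : Group ↥(S : Subgroup 𝔾)) with mul_comm := hab.is_comm.comm }
  have hn7' : orderOf (⟨n, hnN⟩ : ↥(Subgroup.normalizer ((S : Subgroup 𝔾) : Set 𝔾))) = 7 := by
    rw [← Subgroup.orderOf_coe]; exact hn7
  let α : MulAut ↥(S : Subgroup 𝔾) := Subgroup.normalizerMonoidHom (S : Subgroup 𝔾) ⟨n, hnN⟩
  have hα7 : α ^ 7 = 1 := by
    show Subgroup.normalizerMonoidHom (S : Subgroup 𝔾) ⟨n, hnN⟩ ^ 7 = 1
    rw [← map_pow, ← hn7', pow_orderOf_eq_one, map_one]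
  have hα : α ≠ 1 := fun e => by
    have hnc : n ∈ Subgroup.centralizer ((S : Subgroup 𝔾) : Set 𝔾) := by
      have hk : (⟨n, hnN⟩ : ↥(Subgroup.normalizer ((S : Subgroup 𝔾) : Set 𝔾))) ∈
          (Subgroup.normalizerMonoidHom (S : Subgroup 𝔾)).ker := MonoidHom.mem_ker.2 e
      rw [Subgroup.normalizerMonoidHom_ker, Subgroup.mem_subgroupOf] at hk
      exact hk
    rw [hcS] at hnc
    have h2 : n * n = 1 := hsq _ hnc
    have h3 := orderOf_dvd_of_pow_eq_one (show n ^ 2 = 1 by rw [pow_two]; exact h2)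
    rw [hn7] at h3
    norm_num at h3
  exact eq_one_of_seven (S := ↥(S : Subgroup 𝔾)) h8 (fun s => Subtype.ext (hsq _ s.2)) α hα7 hα
    (fun s t => B s t) (fun s t w => (hbil s s.2 t t.2 w w.2).1) (fun s t w => (hbil s s.2 t t.2 w w.2).2)
    (fun s => halt s s.2) (fun s t => hinv n rfl s s.2 t t.2) ⟨x, hx⟩ ⟨y, hy⟩

theorem multiplier_trivial (hm : 1 ≤ m) (hK : Fintype.card K = 3 ^ (2 * m + 1)) :
    Cfsg.HasCyclicSchurMultiplier ↥(twistedG2 K (3 ^ m)) 1 := by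
  refine CfsgLib.Schur.hasCyclicSchurMultiplier_one fun p hp => ?_
  haveI : Fact p.Prime := ⟨hp⟩
  obtain ⟨_, hn⟩ := CfsgLib.Twisted.setupG2 K hK
  rcases eq_or_ne p 2 with rfl | hp2
  · exact noMultiplierAt_two hm hK
  rcases eq_or_ne p 3 with rfl | hp3
  · obtain ⟨S, hS⟩ := exists_sylow_eq (K := K) hn
    exact CfsgLib.Schur.noMultiplierAt_of_derived S fun Γ _ _ σ hσ Q hQ z hz hzQ hz3 =>
      derived_inf_ker hn hm hσ.1 hσ.2.1 (Q := Q) (hQ.le.trans hS.le) hz hzQ hz3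
  · obtain ⟨S⟩ : Nonempty (Sylow p ↥(twistedG2 K (3 ^ m))) := inferInstance
    have h5 : 3 < p := by have := hp.two_le; omega
    exact CfsgLib.Schur.noMultiplierAt_of_cyclic S (Cfsg.Agent.S1156.result hm hK h5 S)

end CfsgLib.SmallReeMult
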