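import Cfsg.Agent.Lib.SmallReeMult.Forms
import Cfsg.Agent.Lib.ReeDeg.Center
import Cfsg.Agent.Lib.SmallRee.Bruhat
import Cfsg.Agent.Lib.Schur.Criteria

/-!
# The 3-part of the multiplier of the small Ree groups is trivial

In a central extension the preimage `W` of `U(0,u,v)` is abelian and the preimage of `U(0,0,v)` is
central in the preimage of the Sylow 3-subgroup; composed with the norm over the torus, the
commutator map of that preimage becomes biadditive and torus-invariant, so it vanishes.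
-/

set_option autoImplicit false
set_option linter.unusedSectionVars false
set_option linter.style.haveILetI false

namespace CfsgLib.SmallReeMult

open Cfsg.Lie CfsgLib.ChevStr CfsgLib.Twisted CfsgLib.SmallRee
open scoped MatrixGroups commutatorElement

universe u v

variable {K : Type v} [Field K] [CharP K 3] [Fintype K] {m : ℕ}

set_option quotPrecheck false
local notation "𝔾" => ↥(twistedG2 K (3 ^ m))

/-- `U(t,u,v)` in the group. -/
noncomputable def uE (t u v : K) : 𝔾 :=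
  ⟨uni K m t u v, (Subgroup.mem_inf.1 (uni_mem_U1 K m t u v)).2⟩

variable (hn : Fintype.card K = 3 * (3 ^ m * 3 ^ m))

/-- The torus element in the group. -/
noncomputable def tE (l : Kˣ) : 𝔾 := ⟨tau K m l, (Subgroup.mem_inf.1 (tau_mem_H1 K hn l)).2⟩

theorem tE_mul (l k : Kˣ) : tE hn l * tE hn k = tE hn (l * k) :=
  Subtype.ext (map_mul (tau K m) l k).symm

theorem tE_conj (l : Kˣ) (t u v : K) :
    tE hn l * uE t u v * (tE hn l)⁻¹ =
      uE (l * t) ((l : K) ^ (3 * 3 ^ m + 1) * u) ((l : K) ^ (3 * 3 ^ m + 2) * v) :=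
  Subtype.ext (tau_conj_uni K hn l t u v)

theorem uE_zero : (uE 0 0 0 : 𝔾) = 1 := Subtype.ext (uni_zero K m)

theorem uE_mid_add (u v u' v' : K) : (uE 0 u v : 𝔾) * uE 0 u' v' = uE 0 (u + u') (v + v') :=
  Subtype.ext (CfsgLib.ReeDeg.uni_mid_add u v u' v')

theorem uE_top_central (v : K) (t u w : K) : Commute (uE t u w : 𝔾) (uE 0 0 v) :=
  Subtype.ext (CfsgLib.ReeDeg.uni_top_central v (Subgroup.mem_inf.1 (uni_mem_U1 K m t u w)).1)

/-- The first coordinate. -/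
noncomputable def fstC (g : 𝔾) : K :=
  (coreG2 K).coord (listSet rootsG2) g2b (g : GL chevG2.Idx K)

theorem fstC_uE (t u v : K) : fstC (uE t u v : 𝔾) = t := (word_top K t u v).2

theorem fstC_mul {g h : 𝔾} (hg : g ∈ Uin (K := K) (m := m)) (hh : h ∈ Uin (K := K) (m := m))
    (hn : Fintype.card K = 3 * (3 ^ m * 3 ^ m)) : fstC (g * h) = fstC g + fstC h := by
  obtain ⟨t, u, v, he⟩ := exists_uni K hn hg
  obtain ⟨t', u', v', he'⟩ := exists_uni K hn hh
  exact (coreG2 K).coord_mul (levelsG2 K).1.1 (by simp [listSet, rootsG2])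
    (by simp [listSet, g2b, g2ab, g2aab, g2aaab, g2aaabb])
    (by rw [show (g : GL chevG2.Idx K) = uni K m t u v from he.symm]; exact (word_top K t u v).1)
    (by rw [show (h : GL chevG2.Idx K) = uni K m t' u' v' from he'.symm]; exact (word_top K t' u' v').1)

include hn

theorem exists_coords {g : 𝔾} (hg : g ∈ Uin (K := K) (m := m)) :
    ∃ u v, g = uE (fstC g) u v := by
  obtain ⟨t, u, v, he⟩ := exists_uni K hn hg
  have hgu : g = uE t u v := Subtype.ext he.symm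
  refine ⟨u, v, ?_⟩
  rw [hgu, fstC_uE]

theorem sq_mem_weights (s : Kˣ) :
    (∃ l : Kˣ, (l : K) ^ (3 * 3 ^ m + 1) = (s : K) ^ 2) ∧
      ∃ l : Kˣ, (l : K) ^ (3 * 3 ^ m + 2) = (s : K) ^ 2 := by
  have h9 : ((s : K) ^ (3 * 3 ^ m)) ^ (3 * 3 ^ m) = (s : K) ^ 3 := by
    rw [← pow_mul, show 3 * 3 ^ m * (3 * 3 ^ m) = 3 * (3 ^ m * 3 ^ m) * 3 by ring, pow_mul,
      CfsgLib.SmallRee.pow_q K hn]
  refine ⟨⟨s ^ (3 * 3 ^ m) * s⁻¹, ?_⟩, ⟨(s ^ 2) ^ 2 * ((s ^ 2) ^ (3 * 3 ^ m))⁻¹, ?_⟩⟩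
  · rw [Units.val_mul, Units.val_pow_eq_pow_val, Units.val_inv_eq_inv_val, pow_succ, mul_pow, h9,
      inv_pow, ← mul_assoc]
    generalize hS : (s : K) ^ (3 * 3 ^ m) = S
    have hS0 : S ≠ 0 := hS ▸ pow_ne_zero _ s.ne_zero
    field_simp
  · rw [Units.val_mul, Units.val_inv_eq_inv_val, Units.val_pow_eq_pow_val, Units.val_pow_eq_pow_val,
      Units.val_pow_eq_pow_val, Units.val_pow_eq_pow_val, pow_add, mul_pow, mul_pow]
    have e2 : (((s : K) ^ 2) ^ (3 * 3 ^ m)) ^ (3 * 3 ^ m) = (s : K) ^ 6 := by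
      rw [← pow_mul, ← pow_mul, show 2 * (3 * 3 ^ m * (3 * 3 ^ m)) = 3 * 3 ^ m * (3 * 3 ^ m) * 2 by ring,
        pow_mul, pow_mul, h9, ← pow_mul]
    have e3 : (((s : K) ^ 2) ^ 2) ^ (3 * 3 ^ m) = (((s : K) ^ 2) ^ (3 * 3 ^ m)) ^ 2 := by
      exact pow_right_comm _ _ _
    rw [inv_pow, inv_pow, e2, e3]
    generalize hS : ((s : K) ^ 2) ^ (3 * 3 ^ m) = S
    have hS0 : S ≠ 0 := hS ▸ pow_ne_zero _ (pow_ne_zero _ s.ne_zero)
    field_simp

/-- The preimage of the Sylow 3-subgroup has derived subgroup meeting the kernel trivially. -/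
theorem derived_inf_ker (hm : 1 ≤ m) {Γ : Type u} [Group Γ] {σ : Γ →* 𝔾}
    (hsur : Function.Surjective σ) (hc : σ.ker ≤ Subgroup.center Γ) {Q : Subgroup Γ}
    (hQ : Q.map σ ≤ Uin (K := K) (m := m)) {z : Γ} (hz : z ∈ σ.ker) (hzQ : z ∈ ⁅Q, Q⁆)
    (hz3 : z ^ 3 = 1) : z = 1 := by
  classical
  obtain ⟨r, hr⟩ := hsur.hasRightInverse
  have hcongr : ∀ {x x' y y' : Γ}, σ x = σ x' → σ y = σ y' → ⁅x, y⁆ = ⁅x', y'⁆ :=
    fun hx hy => CfsgLib.Schur.commutator_congr hc hx hy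
  let Zc := Subgroup.center Γ
  letI : CommGroup ↥Zc :=
    { (inferInstance : Group ↥Zc) with
      mul_comm := fun a b => Subtype.ext ((Subgroup.mem_center_iff.mp b.2 a)) }
  have hcen : ∀ {g : Γ}, g ∈ Zc → ∀ y : Γ, Commute y g := fun hg y => Subgroup.mem_center_iff.1 hg y
  have hconj : ∀ (w x y : Γ), ⁅w * x * w⁻¹, w * y * w⁻¹⁆ = w * ⁅x, y⁆ * w⁻¹ := fun w x y => by
    simp only [commutatorElement_def]; group
  have hcent_conj : ∀ {g : Γ}, g ∈ Zc → ∀ w : Γ, w * g * w⁻¹ = g := fun hg w => by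
    rw [(hcen hg w).eq, mul_inv_cancel_right]
  have hmul_left : ∀ {x y z : Γ}, Commute x ⁅y, z⁆ → ⁅x * y, z⁆ = ⁅y, z⁆ * ⁅x, z⁆ := by
    intro x y z h
    calc ⁅x * y, z⁆ = x * ⁅y, z⁆ * (z * x⁻¹ * z⁻¹) := by simp only [commutatorElement_def]; group
      _ = ⁅y, z⁆ * x * (z * x⁻¹ * z⁻¹) := by rw [h.eq]
      _ = ⁅y, z⁆ * ⁅x, z⁆ := by simp only [commutatorElement_def]; group
  have hmul_right : ∀ {x y z : Γ}, Commute x ⁅z, y⁆ → ⁅z, x * y⁆ = ⁅z, x⁆ * ⁅z, y⁆ := by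
    intro x y z h
    calc ⁅z, x * y⁆ = z * x * z⁻¹ * (⁅z, y⁆ * x⁻¹) := by simp only [commutatorElement_def]; group
      _ = z * x * z⁻¹ * (x⁻¹ * ⁅z, y⁆) := by rw [h.inv_left.eq]
      _ = ⁅z, x⁆ * ⁅z, y⁆ := by simp only [commutatorElement_def]; group
  have hcomm_iff : ∀ {x x' y y' : Γ}, σ x = σ x' → σ y = σ y' → Commute x' y' → Commute x y :=
    fun hx hy h => commutatorElement_eq_one_iff_commute.1
      ((hcongr hx hy).trans (commutatorElement_eq_one_iff_commute.2 h))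
  let te : K → Γ := fun t => r (uE t 0 0)
  let ue : K → Γ := fun u => r (uE 0 u 0)
  let zv : K → Γ := fun v => r (uE 0 0 v)
  let T : Kˣ → Γ := fun l => r (tE hn l)
  have hte : ∀ t, σ (te t) = uE t 0 0 := fun t => hr _
  have hue : ∀ u, σ (ue u) = uE 0 u 0 := fun u => hr _
  have hzv : ∀ v, σ (zv v) = uE 0 0 v := fun v => hr _
  have hT : ∀ l, σ (T l) = tE hn l := fun l => hr _
  have hcomm1 : ∀ {g h : Γ}, Commute (σ g) (σ h) → ⁅g, h⁆ ∈ Zc := fun {g h} hgh => hc (by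
    rw [MonoidHom.mem_ker, map_commutatorElement, commutatorElement_eq_one_iff_commute]
    exact hgh)
  have hmidc : ∀ u v u' v', Commute (uE 0 u v : 𝔾) (uE 0 u' v') := fun u v u' v' => by
    show _ * _ = _ * _
    rw [uE_mid_add, uE_mid_add, add_comm u, add_comm v]
  -- torus conjugates of the lifts
  have eT : ∀ l g t u v, σ g = uE t u v →
      σ (T l * g * (T l)⁻¹) = uE (l * t) ((l : K) ^ (3 * 3 ^ m + 1) * u) ((l : K) ^ (3 * 3 ^ m + 2) * v) := by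
    intro l g t u v hg
    rw [map_mul, map_mul, map_inv, hT, hg, tE_conj]
  have eTt : ∀ (l : Kˣ) t, σ (te (l * t)) = σ (T l * te t * (T l)⁻¹) := fun l t => by
    rw [eT l _ t 0 0 (hte t), hte, mul_zero, mul_zero]
  have eTu : ∀ (l : Kˣ) u, σ (ue ((l : K) ^ (3 * 3 ^ m + 1) * u)) = σ (T l * ue u * (T l)⁻¹) :=
    fun l u => by rw [eT l _ 0 u 0 (hue u), hue, mul_zero, mul_zero]
  have eTz : ∀ (l : Kˣ) v, σ (zv ((l : K) ^ (3 * 3 ^ m + 2) * v)) = σ (T l * zv v * (T l)⁻¹) :=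
    fun l v => by rw [eT l _ 0 0 v (hzv v), hzv, mul_zero, mul_zero]
  have hodd1 : ((-1 : Kˣ) : K) ^ (3 * 3 ^ m + 1) = 1 := by
    rw [pow_succ, pow_mul, Units.val_neg, Units.val_one, Odd.neg_one_pow (show Odd 3 by decide),
      three_pow_odd]
    ring
  have hodd2 : ((-1 : Kˣ) : K) ^ (3 * 3 ^ m + 2) = -1 := by
    rw [show 3 * 3 ^ m + 2 = 3 * 3 ^ m + 1 + 1 from rfl, pow_succ, hodd1, Units.val_neg, Units.val_one,
      one_mul]
  have hqne : Fintype.card K ≠ 4 ∧ Fintype.card K ≠ 9 := by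
    have : 3 ^ 1 ≤ 3 ^ m := Nat.pow_le_pow_right (by norm_num) hm
    have h9 : 3 * 3 ≤ 3 ^ m * 3 ^ m := Nat.mul_le_mul (by simpa using this) (by simpa using this)
    omega
  -- `W` is abelian
  have hadd : ∀ (f : K → Γ) (h : K → 𝔾), (∀ a, σ (f a) = h a) → (∀ a b, h (a + b) = h a * h b) →
      ∀ g, (∀ a, ⁅f a, g⁆ ∈ Zc) →
      (∀ a b, ⁅f (a + b), g⁆ = ⁅f a, g⁆ * ⁅f b, g⁆) ∧ ∀ a b, ⁅g, f (a + b)⁆ = ⁅g, f a⁆ * ⁅g, f b⁆ := by
    intro f h hf hh g hg
    have e : ∀ a b, σ (f (a + b)) = σ (f a * f b) := fun a b => by rw [map_mul, hf, hf, hf, hh]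
    have hg' : ∀ a, ⁅g, f a⁆ ∈ Zc := fun a => by rw [← commutatorElement_inv]; exact inv_mem (hg a)
    exact ⟨fun a b => by rw [hcongr (e a b) rfl, hmul_left (hcen (hg b) _), (hcen (hg b) _).eq],
      fun a b => by rw [hcongr rfl (e a b), hmul_right (hcen (hg' b) _)]⟩
  have haddu : ∀ a b, (uE 0 (a + b) 0 : 𝔾) = uE 0 a 0 * uE 0 b 0 := fun a b => by
    rw [uE_mid_add, add_zero]
  have haddz : ∀ a b, (uE 0 0 (a + b) : 𝔾) = uE 0 0 a * uE 0 0 b := fun a b => by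
    rw [uE_mid_add, add_zero]
  have hZuu : ∀ a b, ⁅ue a, ue b⁆ ∈ Zc := fun a b => hcomm1 (by rw [hue, hue]; exact hmidc _ _ _ _)
  have hZuz : ∀ a b, ⁅ue a, zv b⁆ ∈ Zc := fun a b => hcomm1 (by rw [hue, hzv]; exact hmidc _ _ _ _)
  have hZzz : ∀ a b, ⁅zv a, zv b⁆ ∈ Zc := fun a b => hcomm1 (by rw [hzv, hzv]; exact hmidc _ _ _ _)
  have hZtz : ∀ a b, ⁅te a, zv b⁆ ∈ Zc := fun a b => hcomm1 (by
    rw [hte, hzv]; exact uE_top_central b a 0 0)
  have hUU : ∀ a b, ⁅ue a, ue b⁆ = 1 := fun a b => congrArg Subtype.val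
    (CfsgLib.Schur.torus_form_trivial hqne.1 hqne.2 (M := ↥Zc)
      (fun a b => ⟨⁅ue a, ue b⁆, hZuu a b⟩)
      (fun a a' b => Subtype.ext ((hadd ue _ hue haddu (ue b) (fun x => hZuu x b)).1 a a'))
      (fun b b' a => Subtype.ext ((hadd ue _ hue haddu (ue a) (fun x => hZuu x a)).2 b b'))
      (fun a => Subtype.ext (commutatorElement_self _))
      (fun s a b => Subtype.ext (by
        obtain ⟨l, hl⟩ := (sq_mem_weights hn s).1
        show ⁅ue ((s : K) ^ 2 * a), ue ((s : K) ^ 2 * b)⁆ = ⁅ue a, ue b⁆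
        rw [← hl, hcongr (eTu l a) (eTu l b), hconj, hcent_conj (hZuu a b)]))
      a b)
  have hZZ : ∀ a b, ⁅zv a, zv b⁆ = 1 := fun a b => congrArg Subtype.val
    (CfsgLib.Schur.torus_form_trivial hqne.1 hqne.2 (M := ↥Zc)
      (fun a b => ⟨⁅zv a, zv b⁆, hZzz a b⟩)
      (fun a a' b => Subtype.ext ((hadd zv _ hzv haddz (zv b) (fun x => hZzz x b)).1 a a'))
      (fun b b' a => Subtype.ext ((hadd zv _ hzv haddz (zv a) (fun x => hZzz x a)).2 b b'))
      (fun a => Subtype.ext (commutatorElement_self _))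
      (fun s a b => Subtype.ext (by
        obtain ⟨l, hl⟩ := (sq_mem_weights hn s).2
        show ⁅zv ((s : K) ^ 2 * a), zv ((s : K) ^ 2 * b)⁆ = ⁅zv a, zv b⁆
        rw [← hl, hcongr (eTz l a) (eTz l b), hconj, hcent_conj (hZzz a b)]))
      a b)
  have hUZ : ∀ a b, ⁅ue a, zv b⁆ = 1 := fun a b => congrArg Subtype.val
    (eq_one_of_neg (A := ↥Zc) (f := fun x => ⟨⁅ue a, zv x⁆, hZuz a x⟩)
      (fun x y => Subtype.ext ((hadd zv _ hzv haddz (ue a)
        (fun v => by rw [← commutatorElement_inv]; exact inv_mem (hZuz a v))).2 x y))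
      (fun x => Subtype.ext (by
        show ⁅ue a, zv (-x)⁆ = ⁅ue a, zv x⁆
        have e1 := eTu (-1) a
        have e2 := eTz (-1) x
        rw [hodd1, one_mul] at e1
        rw [hodd2, neg_one_mul] at e2
        rw [hcongr e1 e2, hconj, hcent_conj (hZuz a x)]))
      b)
  let InW : Γ → Prop := fun g => ∃ u v, σ g = uE 0 u v
  let InZ : Γ → Prop := fun g => ∃ v, σ g = uE 0 0 v
  let InQ : Γ → Prop := fun g => σ g ∈ Uin (K := K) (m := m)
  have hZW : ∀ g, InZ g → InW g := fun g ⟨v, h⟩ => ⟨0, v, h⟩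
  have hWQ : ∀ g, InW g → InQ g := fun g ⟨u, v, h⟩ => by
    show σ g ∈ _
    rw [h]; exact uni_mem_U1 K m 0 u v
  have hWdec : ∀ g u v, σ g = uE 0 u v → σ g = σ (ue u * zv v) := fun g u v h => by
    rw [h, map_mul, hue, hzv, uE_mid_add, add_zero, zero_add]
  have hWW : ∀ g h, InW g → InW h → Commute g h := by
    rintro g h ⟨u, v, hg⟩ ⟨u', v', hh⟩
    refine hcomm_iff (hWdec g u v hg) (hWdec h u' v' hh) ?_
    have c1 : ∀ a b, Commute (ue a) (ue b) := fun a b => commutatorElement_eq_one_iff_commute.1 (hUU a b)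
    have c2 : ∀ a b, Commute (ue a) (zv b) := fun a b => commutatorElement_eq_one_iff_commute.1 (hUZ a b)
    have c3 : ∀ a b, Commute (zv a) (zv b) := fun a b => commutatorElement_eq_one_iff_commute.1 (hZZ a b)
    exact Commute.mul_left ((c1 u u').mul_right (c2 u v')) ((c2 u' v).symm.mul_right (c3 v v'))
  -- the splitting of elements over `U`
  have hmidU : ∀ {g : 𝔾}, g ∈ Uin (K := K) (m := m) → fstC g = 0 → ∃ u v, g = uE 0 u v := by
    intro g hg h0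
    obtain ⟨u, v, he⟩ := exists_coords hn hg
    exact ⟨u, v, by rwa [h0] at he⟩
  have hUmem : ∀ t u v, (uE t u v : 𝔾) ∈ Uin (K := K) (m := m) := fun t u v => uni_mem_U1 K m t u v
  have hfinv : ∀ {g : 𝔾}, g ∈ Uin (K := K) (m := m) → fstC g⁻¹ = -fstC g := by
    intro g hg
    have h := fstC_mul hg (inv_mem hg) hn
    rw [mul_inv_cancel, ← uE_zero (K := K) (m := m), fstC_uE] at h
    exact eq_neg_of_add_eq_zero_right h.symm
  have hQdec : ∀ g, InQ g → ∃ w, InW w ∧ g = te (fstC (σ g)) * w := by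
    intro g hg
    refine ⟨(te (fstC (σ g)))⁻¹ * g, ?_, by group⟩
    have hmem : σ ((te (fstC (σ g)))⁻¹ * g) ∈ Uin (K := K) (m := m) := by
      rw [map_mul, map_inv, hte]
      exact mul_mem (inv_mem (hUmem _ _ _)) hg
    refine hmidU hmem ?_
    rw [map_mul, map_inv, hte, fstC_mul (inv_mem (hUmem _ _ _)) hg hn, hfinv (hUmem _ _ _), fstC_uE,
      neg_add_cancel]
  have htw : ∀ a b, ∃ w, InW w ∧ σ (te (a + b)) = σ (te a * te b * w) := by
    intro a b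
    refine ⟨(te a * te b)⁻¹ * te (a + b), ?_, by rw [mul_inv_cancel_left]⟩
    have hab : (σ (te a * te b) : 𝔾) ∈ Uin (K := K) (m := m) := by
      rw [map_mul, hte, hte]; exact mul_mem (hUmem _ _ _) (hUmem _ _ _)
    have hmem : σ ((te a * te b)⁻¹ * te (a + b)) ∈ Uin (K := K) (m := m) := by
      rw [map_mul, map_inv, hte (a + b)]
      exact mul_mem (inv_mem hab) (hUmem _ _ _)
    refine hmidU hmem ?_
    rw [map_mul, map_inv, fstC_mul (inv_mem hab) (hte (a + b) ▸ hUmem _ _ _) hn, hfinv hab, hte (a + b),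
      fstC_uE, map_mul, fstC_mul (hte a ▸ hUmem _ _ _) (hte b ▸ hUmem _ _ _) hn, hte, hte, fstC_uE,
      fstC_uE, neg_add_cancel]
  -- `Z` is central in `Q`
  have hTZadd : ∀ v a b, ⁅te (a + b), zv v⁆ = ⁅te a, zv v⁆ * ⁅te b, zv v⁆ := by
    intro v a b
    obtain ⟨w, hw, he⟩ := htw a b
    have hwz : ⁅w, zv v⁆ = 1 := commutatorElement_eq_one_iff_commute.2
      (hWW _ _ hw ⟨0, v, hzv v⟩)
    rw [hcongr he rfl, hmul_left (by rw [hwz]; exact Commute.one_right _), hwz, one_mul,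
      hmul_left (hcen (hZtz b v) _)]
    exact (hcen (hZtz b v) _).eq.symm
  have hTZ : ∀ a b, ⁅te a, zv b⁆ = 1 := fun a b => congrArg Subtype.val
    (eq_one_of_mixed (A := ↥Zc) hm hn (B := fun a b => ⟨⁅te a, zv b⁆, hZtz a b⟩)
      (fun a a' b => Subtype.ext (hTZadd b a a'))
      (fun a b b' => Subtype.ext ((hadd zv _ hzv haddz (te a)
        (fun v => by rw [← commutatorElement_inv]; exact inv_mem (hZtz a v))).2 b b'))
      (fun k a b hk => Subtype.ext (by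
        show ⁅te (k * a), zv (k ^ (3 * 3 ^ m + 2) * b)⁆ = ⁅te a, zv b⁆
        rw [← Units.val_mk0 hk, hcongr (eTt (Units.mk0 k hk) a) (eTz (Units.mk0 k hk) b), hconj,
          hcent_conj (hZtz a b)]))
      a b)
  have hQZ : ∀ g h, InQ g → InZ h → Commute g h := by
    intro g h hg hh
    obtain ⟨w, hw, he⟩ := hQdec g hg
    obtain ⟨v, hv⟩ := hh
    rw [he]
    exact (hcomm_iff rfl (hv.trans (hzv v).symm)
      (commutatorElement_eq_one_iff_commute.1 (hTZ _ v))).mul_left (hWW _ _ hw ⟨0, v, hv⟩)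
  -- commutators of `te` and `ue` lie over `Z`
  have hTUz : ∀ t u, InZ ⁅te t, ue u⁆ := by
    intro t u
    refine ⟨t * u, ?_⟩
    have hs : (uE t 0 0 : 𝔾) * uE 0 u 0 = uE 0 u 0 * uE t 0 0 * uE 0 0 (t * u) :=
      Subtype.ext (CfsgLib.ReeDeg.swap hn t u)
    rw [map_commutatorElement, hte, hue, commutatorElement_def, hs,
      mul_assoc (uE 0 u 0 : 𝔾), (uE_top_central (t * u) t 0 0).eq, ← mul_assoc,
      mul_inv_cancel_right, (hmidc u 0 0 (t * u)).eq, mul_inv_cancel_right]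
  have hgw : ∀ g w u v, InQ g → σ w = uE 0 u v → ⁅g, w⁆ = ⁅te (fstC (σ g)), ue u⁆ := by
    intro g w u v hg hw
    obtain ⟨w₀, hw₀, he⟩ := hQdec g hg
    have h0 : ⁅w₀, w⁆ = 1 := commutatorElement_eq_one_iff_commute.2 (hWW _ _ hw₀ ⟨u, v, hw⟩)
    conv_lhs => rw [he]
    rw [hmul_left (by rw [h0]; exact Commute.one_right _), h0, one_mul,
      hcongr rfl (hWdec w u v hw), hmul_right (by rw [hTZ]; exact Commute.one_right _), hTZ, mul_one]
  -- the norm over the torus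
  let midU : Subgroup 𝔾 :=
    { carrier := {g | ∃ u v, g = uE 0 u v}
      mul_mem' := by
        rintro _ _ ⟨u, v, rfl⟩ ⟨u', v', rfl⟩
        exact ⟨u + u', v + v', uE_mid_add _ _ _ _⟩
      one_mem' := ⟨0, 0, uE_zero.symm⟩
      inv_mem' := by
        rintro _ ⟨u, v, rfl⟩
        exact ⟨-u, -v, inv_eq_of_mul_eq_one_right (by rw [uE_mid_add, add_neg_cancel, add_neg_cancel, uE_zero])⟩ }
  let W : Subgroup Γ := midU.comap σ
  have hmemW : ∀ g, g ∈ W ↔ InW g := fun g => Iff.rfl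
  letI : CommGroup ↥W :=
    { (inferInstance : Group ↥W) with
      mul_comm := fun a b => Subtype.ext (hWW a b a.2 b.2).eq }
  have htW : ∀ l : Kˣ, ∀ g ∈ W, T l * g * (T l)⁻¹ ∈ W := by
    rintro l g ⟨u, v, hg⟩
    exact ⟨_, _, by rw [eT l g 0 u v hg, mul_zero]⟩
  let N : ↥W →* ↥W :=
    { toFun := fun g => ∏ l : Kˣ, ⟨T l * g * (T l)⁻¹, htW l g g.2⟩
      map_one' := Finset.prod_eq_one fun x _ => Subtype.ext (by simp)
      map_mul' := fun g h => by
        rw [← Finset.prod_mul_distrib]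
        exact Finset.prod_congr rfl fun x _ => Subtype.ext (by
          show T x * ((g : Γ) * h) * (T x)⁻¹ = T x * g * (T x)⁻¹ * (T x * h * (T x)⁻¹)
          group) }
  have hNinv : ∀ (k : Kˣ) (w : ↥W), N ⟨T k * w * (T k)⁻¹, htW k w w.2⟩ = N w := by
    intro k w
    refine Fintype.prod_equiv (Equiv.mulRight k) _ _ fun l => Subtype.ext ?_
    show T l * (T k * (w : Γ) * (T k)⁻¹) * (T l)⁻¹ = T (l * k) * w * (T (l * k))⁻¹
    obtain ⟨c, hc', e⟩ : ∃ c ∈ Zc, T l * T k = T (l * k) * c := by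
      refine ⟨(T (l * k))⁻¹ * (T l * T k), hc ?_, by group⟩
      rw [MonoidHom.mem_ker, map_mul, map_inv, map_mul, hT, hT, hT, tE_mul, inv_mul_cancel]
    calc T l * (T k * (w : Γ) * (T k)⁻¹) * (T l)⁻¹ = T l * T k * (w : Γ) * (T l * T k)⁻¹ := by group
      _ = T (l * k) * (c * (w : Γ) * c⁻¹) * (T (l * k))⁻¹ := by rw [e]; group
      _ = _ := by rw [(hcen hc' (w : Γ)).eq.symm, mul_inv_cancel_right]
  have hQW : ∀ g h, InQ g → InQ h → ⁅g, h⁆ ∈ W := by
    intro g h hg hh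
    have hg' := inv_mem hg
    have hh' := inv_mem hh
    show σ ⁅g, h⁆ ∈ midU
    have hmem : σ ⁅g, h⁆ ∈ Uin (K := K) (m := m) := by
      rw [map_commutatorElement, commutatorElement_def]
      exact mul_mem (mul_mem (mul_mem hg hh) hg') hh'
    refine hmidU hmem ?_
    rw [map_commutatorElement, commutatorElement_def, fstC_mul (mul_mem (mul_mem hg hh) hg') hh' hn,
      fstC_mul (mul_mem hg hh) hg' hn, fstC_mul hg hh hn, hfinv hg, hfinv hh]
    ring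
  -- `N` kills commutators with `W`
  have hteQ : ∀ t, InQ (te t) := fun t => by
    show σ (te t) ∈ _
    rw [hte]; exact hUmem _ _ _
  have hueW : ∀ u, InW (ue u) := fun u => ⟨u, 0, hue u⟩
  have hTUr : ∀ t u u', ⁅te t, ue (u + u')⁆ = ⁅te t, ue u⁆ * ⁅te t, ue u'⁆ := fun t u u' => by
    rw [hcongr rfl (show σ (ue (u + u')) = σ (ue u * ue u') by rw [map_mul, hue, hue, hue, haddu]),
      hmul_right (hWW _ _ (hueW u) (hZW _ (hTUz t u')))]
  have hTUl : ∀ t t' u, ⁅te (t + t'), ue u⁆ = ⁅te t, ue u⁆ * ⁅te t', ue u⁆ := fun t t' u => by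
    obtain ⟨w, hw, he⟩ := htw t t'
    have h0 : ⁅w, ue u⁆ = 1 := commutatorElement_eq_one_iff_commute.2 (hWW _ _ hw (hueW u))
    rw [hcongr he rfl, hmul_left (by rw [h0]; exact Commute.one_right _), h0, one_mul,
      hmul_left (hQZ _ _ (hteQ t) (hTUz t' u))]
    exact (hWW _ _ (hZW _ (hTUz t u)) (hZW _ (hTUz t' u))).eq.symm
  have hNTU : ∀ t u, N ⟨⁅te t, ue u⁆, hZW _ (hTUz t u)⟩ = 1 := fun t u =>
    eq_one_of_neg (A := ↥W) (f := fun x => N ⟨⁅te x, ue u⁆, hZW _ (hTUz x u)⟩)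
      (fun x y => by
        rw [← map_mul]
        exact congrArg N (Subtype.ext (hTUl x y u)))
      (fun x => by
        refine Eq.trans (congrArg N (Subtype.ext ?_)) (hNinv (-1) _)
        show ⁅te (-x), ue u⁆ = T (-1) * ⁅te x, ue u⁆ * (T (-1))⁻¹
        rw [← hconj]
        refine hcongr ?_ ?_
        · rw [← eTt (-1) x, Units.val_neg, Units.val_one, neg_one_mul]
        · rw [← eTu (-1) u, hodd1, one_mul])
      t
  have hN1 : ∀ g w (hg : InQ g) (hw : InW w), N ⟨⁅g, w⁆, hQW g w hg (hWQ w hw)⟩ = 1 := by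
    rintro g w hg ⟨u, v, hw⟩
    exact (congrArg N (Subtype.ext (hgw g w u v hg hw))).trans (hNTU _ _)
  have hN2 : ∀ g w (hg : InQ g) (hw : InW w), N ⟨⁅w, g⁆, hQW w g (hWQ w hw) hg⟩ = 1 := by
    intro g w hg hw
    rw [show (⟨⁅w, g⁆, hQW w g (hWQ w hw) hg⟩ : ↥W) = (⟨⁅g, w⁆, hQW g w hg (hWQ w hw)⟩)⁻¹ from
      Subtype.ext (commutatorElement_inv g w).symm, map_inv, hN1 g w hg hw, inv_one]
  -- the form on `Q / W`
  let Φ : K → K → ↥W := fun s t => N ⟨⁅te s, te t⁆, hQW _ _ (hteQ s) (hteQ t)⟩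
  have hNmul : ∀ a b y (ha : InQ a) (hb : InQ b) (hy : InQ y),
      N ⟨⁅a * b, y⁆, hQW _ y (by show σ _ ∈ _; rw [map_mul]; exact mul_mem ha hb) hy⟩ =
        N ⟨⁅a, y⁆, hQW a y ha hy⟩ * N ⟨⁅b, y⁆, hQW b y hb hy⟩ := by
    intro a b y ha hb hy
    have e : (⟨⁅a * b, y⁆, hQW _ y (by show σ _ ∈ _; rw [map_mul]; exact mul_mem ha hb) hy⟩ : ↥W) =
        ⟨⁅a, ⁅b, y⁆⁆, hQW a _ ha (hWQ _ (hQW b y hb hy))⟩ * ⟨⁅b, y⁆, hQW b y hb hy⟩ *
          ⟨⁅a, y⁆, hQW a y ha hy⟩ := Subtype.ext (by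
      show ⁅a * b, y⁆ = ⁅a, ⁅b, y⁆⁆ * ⁅b, y⁆ * ⁅a, y⁆
      simp only [commutatorElement_def]; group)
    rw [e, map_mul, map_mul, hN1 a ⁅b, y⁆ ha (hQW b y hb hy), one_mul, mul_comm]
  have hswap : ∀ a b (ha : InQ a) (hb : InQ b),
      N ⟨⁅a, b⁆, hQW a b ha hb⟩ = (N ⟨⁅b, a⁆, hQW b a hb ha⟩)⁻¹ := fun a b ha hb => by
    rw [← map_inv]
    exact congrArg N (Subtype.ext (commutatorElement_inv b a).symm)
  have hC : ∀ g h (hg : InQ g) (hh : InQ h),
      N ⟨⁅g, h⁆, hQW g h hg hh⟩ = Φ (fstC (σ g)) (fstC (σ h)) := by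
    have key : ∀ g y (hg : InQ g) (hy : InQ y),
        N ⟨⁅g, y⁆, hQW g y hg hy⟩ = N ⟨⁅te (fstC (σ g)), y⁆, hQW _ y (hteQ _) hy⟩ := by
      intro g y hg hy
      obtain ⟨w, hw, he⟩ := hQdec g hg
      have := hNmul (te (fstC (σ g))) w y (hteQ _) (hWQ w hw) hy
      rw [hN2 y w hy hw, mul_one] at this
      exact Eq.trans (congrArg N (Subtype.ext (congrArg (fun x => ⁅x, y⁆) he))) this
    intro g h hg hh
    rw [key g h hg hh, hswap _ h (hteQ _) hh, key h _ hh (hteQ _), ← hswap _ _ (hteQ _) (hteQ _)]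
  have hΦl : ∀ a a' b, Φ (a + a') b = Φ a b * Φ a' b := by
    intro a a' b
    have haa : InQ (te a * te a') := by
      show σ _ ∈ _
      rw [map_mul]; exact mul_mem (hteQ a) (hteQ a')
    have hf : fstC (σ (te a * te a')) = a + a' := by
      rw [map_mul, fstC_mul (hteQ a) (hteQ a') hn, hte, hte, fstC_uE, fstC_uE]
    have h1 := hC (te a * te a') (te b) haa (hteQ b)
    rw [hf, hte b, fstC_uE, hNmul (te a) (te a') (te b) (hteQ a) (hteQ a') (hteQ b)] at h1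
    exact h1.symm
  have hΦswap : ∀ a b, Φ a b = (Φ b a)⁻¹ := fun a b => hswap _ _ (hteQ a) (hteQ b)
  have hΦ : ∀ a b, Φ a b = 1 :=
    CfsgLib.Schur.torus_form_trivial hqne.1 hqne.2 Φ hΦl
      (fun x y z => by rw [hΦswap z (x + y), hΦl, mul_inv_rev, ← hΦswap, ← hΦswap, mul_comm])
      (fun a => (congrArg N (Subtype.ext (commutatorElement_self (te a)))).trans (map_one N))
      (fun s a b => by
        refine Eq.trans (congrArg N (Subtype.ext ?_)) (hNinv (s ^ 2) _)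
        show ⁅te ((s : K) ^ 2 * a), te ((s : K) ^ 2 * b)⁆ = T (s ^ 2) * ⁅te a, te b⁆ * (T (s ^ 2))⁻¹
        rw [← hconj, ← Units.val_pow_eq_pow_val]
        exact hcongr (eTt _ a) (eTt _ b))
  have hle : ⁅Q, Q⁆ ≤ N.ker.map W.subtype := by
    rw [Subgroup.commutator_le]
    intro g hg h hh
    have hg' : InQ g := hQ (Subgroup.mem_map_of_mem σ hg)
    have hh' : InQ h := hQ (Subgroup.mem_map_of_mem σ hh)
    refine ⟨⟨⁅g, h⁆, hQW g h hg' hh'⟩, ?_, rfl⟩
    rw [SetLike.mem_coe, MonoidHom.mem_ker, hC g h hg' hh', hΦ]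
  obtain ⟨w, hwk, hwz⟩ := hle hzQ
  have hNz : N w = w ^ Fintype.card Kˣ := by
    show (∏ l : Kˣ, (⟨T l * w * (T l)⁻¹, htW l w w.2⟩ : ↥W)) = _
    rw [Finset.prod_congr rfl (g := fun _ => w) fun x _ => Subtype.ext (by
      show T x * (w : Γ) * (T x)⁻¹ = w
      exact hcent_conj (hc (show (w : Γ) ∈ σ.ker by rwa [show (w : Γ) = z from hwz])) _),
      Finset.prod_const, Finset.card_univ]
  have h1 : z ^ Fintype.card Kˣ = 1 := by
    rw [← hwz, ← map_pow, ← hNz, MonoidHom.mem_ker.1 hwk, map_one]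
  rw [Fintype.card_units] at h1
  exact orderOf_eq_one_iff.1 (Nat.eq_one_of_dvd_coprimes
    ((Nat.Prime.coprime_iff_not_dvd Nat.prime_three).2 (three_not_dvd_card_sub_one hn))
    (orderOf_dvd_of_pow_eq_one hz3) (orderOf_dvd_of_pow_eq_one h1))

end CfsgLib.SmallReeMult
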